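import Cfsg.Agent.Lib.CyclicVector
import Mathlib.LinearAlgebra.Matrix.ProjectiveSpecialLinearGroup
import Mathlib.LinearAlgebra.Matrix.GeneralLinearGroup.Card
import Mathlib.FieldTheory.Separable
import Mathlib.GroupTheory.Perm.Cycle.Type

/-! Tools for adjacency in prime graphs of `PSL_n(q)`: primitive prime orders and block sums. -/

set_option autoImplicit false

namespace CfsgLib.PSLGraph

open Polynomial

variable {F : Type*} [Field F] [Fintype F] {n : ℕ}

/-- Block diagonal embedding of two general linear groups. -/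
theorem exists_blockHom {a b c : ℕ} (h : a + b + c = n) :
    ∃ φ : GL (Fin a) F × GL (Fin b) F →* GL (Fin n) F, Function.Injective φ := by
  classical
  let e : Fin a ⊕ (Fin b ⊕ Fin c) ≃ Fin n :=
    ((Equiv.refl _).sumCongr finSumFinEquiv).trans (finSumFinEquiv.trans (finCongr (by omega)))
  let T : GL (Fin a) F × GL (Fin b) F → Matrix (Fin n) (Fin n) F := fun g =>
    Matrix.reindex e e (Matrix.fromBlocks g.1.1 0 0 (Matrix.fromBlocks g.2.1 0 0 1))
  let ψ : GL (Fin a) F × GL (Fin b) F →* Matrix (Fin n) (Fin n) F :=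
    { toFun := T
      map_one' := by simp [T, Matrix.fromBlocks_one, Matrix.submatrix_one_equiv]
      map_mul' := fun g h => by
        simp [T, Matrix.submatrix_mul_equiv, Matrix.fromBlocks_multiply] }
  refine ⟨ψ.toHomUnits, fun g h hgh => ?_⟩
  have h1 : T g = T h := congrArg (fun u : GL (Fin n) F => (u : Matrix (Fin n) (Fin n) F)) hgh
  have h2 := (Matrix.reindex e e).injective h1
  rw [Matrix.fromBlocks_inj, Matrix.fromBlocks_inj] at h2
  exact Prod.ext (Units.ext h2.1) (Units.ext h2.2.2.2.1)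

theorem not_dvd_card_sub_one {r : ℕ} (h : 2 ≤ orderOf ((Fintype.card F : ℕ) : ZMod r)) :
    ¬ r ∣ Fintype.card F - 1 := by
  intro hd
  have : ((Fintype.card F : ℕ) : ZMod r) = 1 := by
    rw [← Nat.cast_one, ZMod.natCast_eq_natCast_iff]
    exact ((Nat.modEq_iff_dvd' Fintype.card_pos).2 hd).symm
  rw [this, orderOf_one] at h
  omega

theorem orderOf_dvd_of_dvd_pow_sub_one {r d : ℕ} (h : r ∣ Fintype.card F ^ d - 1) :
    orderOf ((Fintype.card F : ℕ) : ZMod r) ∣ d := by
  refine orderOf_dvd_of_pow_eq_one ?_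
  rw [← Nat.cast_pow, ← Nat.cast_one, ZMod.natCast_eq_natCast_iff]
  exact ((Nat.modEq_iff_dvd' (Nat.one_le_pow _ _ Fintype.card_pos)).2 h).symm

theorem dvd_pow_orderOf_sub_one (r : ℕ) :
    r ∣ Fintype.card F ^ orderOf ((Fintype.card F : ℕ) : ZMod r) - 1 := by
  have h := pow_orderOf_eq_one ((Fintype.card F : ℕ) : ZMod r)
  rw [← Nat.cast_pow, ← Nat.cast_one, ZMod.natCast_eq_natCast_iff] at h
  exact (Nat.modEq_iff_dvd' (Nat.one_le_pow _ _ Fintype.card_pos)).1 h.symm

theorem orderOf_le_of_dvd_card {p r : ℕ} [Fact p.Prime] [CharP F p] (hr : r.Prime) (hrp : r ≠ p)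
    (h : r ∣ Nat.card (GL (Fin n) F)) :
    orderOf ((Fintype.card F : ℕ) : ZMod r) ≤ n := by
  rw [Matrix.card_GL_field] at h
  obtain ⟨i, -, hi⟩ := (Prime.dvd_finsetProd_iff hr.prime _).1 h
  have hin := i.isLt
  set q := Fintype.card F
  have e : q ^ n - q ^ (i : ℕ) = q ^ (i : ℕ) * (q ^ (n - i) - 1) := by
    rw [Nat.mul_sub, ← pow_add, mul_one, Nat.add_sub_cancel' hin.le]
  rw [e] at hi
  rcases hr.dvd_mul.1 hi with h' | h'
  · exfalso
    obtain ⟨f, hp, hf⟩ := FiniteField.card F p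
    exact hrp ((Nat.prime_dvd_prime_iff_eq hr hp).1
      (hr.dvd_of_dvd_pow ((hr.dvd_of_dvd_pow h').trans (dvd_of_eq hf))))
  · exact le_trans (Nat.le_of_dvd (by omega) (orderOf_dvd_of_dvd_pow_sub_one h')) (Nat.sub_le _ _)

theorem exists_element {p r : ℕ} [Fact p.Prime] [CharP F p] (hr : r.Prime)
    (hk : 1 ≤ orderOf ((Fintype.card F : ℕ) : ZMod r)) :
    ∃ x : GL (Fin (orderOf ((Fintype.card F : ℕ) : ZMod r))) F, orderOf x = r := by
  haveI := Fact.mk hr
  refine exists_prime_orderOf_dvd_card' r ?_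
  rw [Matrix.card_GL_field]
  refine dvd_trans ?_ (Finset.dvd_prod_of_mem _ (Finset.mem_univ ⟨0, hk⟩))
  simpa using dvd_pow_orderOf_sub_one (F := F) r

/-- An element of `GL_n` whose `r`-part is nontrivial has an irreducible factor of its minimal
polynomial of degree divisible by the order of `q` modulo `r`. -/
theorem exists_factor {p r m : ℕ} [Fact p.Prime] [CharP F p] (hr : r.Prime) (hrp : r ≠ p)
    (hm : ¬ p ∣ m) (x : GL (Fin n) F) (hx : x ^ (r * m) = 1) (hxm : x ^ m ≠ 1) :
    ∃ f : F[X], Irreducible f ∧ f ∣ minpoly F (x : Matrix (Fin n) (Fin n) F) ∧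
      f ∣ X ^ (r * m) - 1 ∧ ¬ f ∣ X ^ m - 1 ∧
      orderOf ((Fintype.card F : ℕ) : ZMod r) ∣ f.natDegree := by
  classical
  haveI := Fact.mk hr
  set M : Matrix (Fin n) (Fin n) F := x.1
  have hMr : M ^ (r * m) = 1 := by rw [← Units.val_pow_eq_pow_val, hx, Units.val_one]
  have hPint : IsIntegral F M := Algebra.IsIntegral.isIntegral M
  obtain ⟨G, hG⟩ : (X ^ m - 1 : F[X]) ∣ X ^ (r * m) - 1 := by
    rw [mul_comm r m, pow_mul]
    exact sub_one_dvd_pow_sub_one _ r
  have hrm : ((r * m : ℕ) : F) ≠ 0 := by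
    intro h0
    rw [CharP.cast_eq_zero_iff F p] at h0
    rcases (Fact.out : p.Prime).dvd_mul.1 h0 with h' | h'
    · exact hrp ((Nat.prime_dvd_prime_iff_eq Fact.out hr).1 h').symm
    · exact hm h'
  have hsep : (X ^ (r * m) - 1 : F[X]).Separable := by
    simpa using separable_X_pow_sub_C (1 : F) hrm one_ne_zero
  rw [hG] at hsep
  have hco : IsCoprime (X ^ m - 1 : F[X]) G := hsep.isCoprime
  obtain ⟨f, hf, hfP, hfG⟩ : ∃ f : F[X], Irreducible f ∧ f ∣ minpoly F M ∧ f ∣ G := by
    by_contra hc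
    push Not at hc
    have hcop : IsCoprime (minpoly F M) G := by
      refine isCoprime_of_irreducible_dvd ?_ fun z hz h1 h2 => hc z hz h1 h2
      rintro ⟨h0, -⟩
      exact minpoly.ne_zero hPint h0
    have h1 : minpoly F M ∣ X ^ m - 1 := hcop.dvd_of_dvd_mul_right
      (minpoly.dvd F M (by rw [← hG]; simp [hMr]))
    have h2 : aeval M (X ^ m - 1 : F[X]) = 0 :=
      aeval_eq_zero_of_dvd_aeval_eq_zero h1 (minpoly.aeval F M)
    simp [sub_eq_zero] at h2
    exact hxm (Units.ext (by simpa [M] using h2))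
  have hfm : ¬ f ∣ X ^ m - 1 := fun h => hf.not_isUnit (hco.isUnit_of_dvd' h hfG)
  refine ⟨f, hf, hfP, (by rw [hG]; exact hfG.mul_left _) , hfm, ?_⟩
  · haveI := Fact.mk hf
    let pb := AdjoinRoot.powerBasis hf.ne_zero
    haveI : Module.Finite F (AdjoinRoot f) := pb.finite
    haveI : Finite (AdjoinRoot f) := Module.finite_of_finite F
    have hK : Nat.card (AdjoinRoot f) = Fintype.card F ^ f.natDegree := by
      rw [Module.natCard_eq_pow_finrank (K := F), pb.finrank, AdjoinRoot.powerBasis_dim,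
        Nat.card_eq_fintype_card]
    set ζ := AdjoinRoot.root f with hζdef
    have hζ1 : ζ ^ (r * m) = 1 := by
      have : AdjoinRoot.mk f (X ^ (r * m) - 1) = 0 := by
        rw [AdjoinRoot.mk_eq_zero, hG]
        exact hfG.mul_left _
      simpa [sub_eq_zero, ← hζdef] using this
    have hζm : ζ ^ m ≠ 1 := by
      intro h
      apply hfm
      rw [← AdjoinRoot.mk_eq_zero]
      simp [sub_eq_zero, ← hζdef, h]
    have hz : ζ ≠ 0 := fun h0 => by
      rw [h0, zero_pow (Nat.mul_ne_zero hr.ne_zero (by rintro rfl; exact hm (dvd_zero p)))] at hζ1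
      exact zero_ne_one hζ1
    have ho : orderOf (Units.mk0 ζ hz ^ m) = r := orderOf_eq_prime
      (by rw [← pow_mul, mul_comm]; exact Units.ext (by simpa using hζ1))
      (fun h1 => hζm (by simpa using congrArg Units.val h1))
    have := orderOf_dvd_natCard (Units.mk0 ζ hz ^ m)
    rw [ho, Nat.card_units, hK] at this
    exact orderOf_dvd_of_dvd_pow_sub_one this

end CfsgLib.PSLGraph
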