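import Cfsg.Agent.Lib.PSLGraph.Basic
import Mathlib.LinearAlgebra.Matrix.Charpoly.Minpoly
import Mathlib.RingTheory.Polynomial.UniqueFactorization
import Mathlib.LinearAlgebra.Matrix.Transvection
import Mathlib.FieldTheory.Finite.Basic

/-! Semisimple elements commuting with nontrivial unipotent ones: tools for adjacency of a prime
to the characteristic in prime graphs of `PSL_n(q)`. -/

set_option autoImplicit false

namespace CfsgLib.PSLGraph

open Polynomial

variable {F : Type*} [Field F] {n : ℕ}

/-- Block diagonal embedding, with the determinant and the detection of scalars. -/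
theorem exists_blockHom' {a b c : ℕ} (h : a + b + c = n) (ha : 1 ≤ a) :
    ∃ φ : GL (Fin a) F × GL (Fin b) F →* GL (Fin n) F, Function.Injective φ ∧
      (∀ g, (φ g : Matrix (Fin n) (Fin n) F).det =
        (g.1 : Matrix (Fin a) (Fin a) F).det * (g.2 : Matrix (Fin b) (Fin b) F).det) ∧
      (∀ g t, (φ g : Matrix (Fin n) (Fin n) F) = Matrix.scalar (Fin n) t →
        (g.1 : Matrix (Fin a) (Fin a) F) = Matrix.scalar (Fin a) t ∧
        (g.2 : Matrix (Fin b) (Fin b) F) = Matrix.scalar (Fin b) t ∧ (1 ≤ c → t = 1)) ∧
      (∀ g t, c = 0 → (g.1 : Matrix (Fin a) (Fin a) F) = Matrix.scalar (Fin a) t →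
        (g.2 : Matrix (Fin b) (Fin b) F) = Matrix.scalar (Fin b) t →
        (φ g : Matrix (Fin n) (Fin n) F) = Matrix.scalar (Fin n) t) := by
  classical
  let e : Fin a ⊕ (Fin b ⊕ Fin c) ≃ Fin n :=
    ((Equiv.refl _).sumCongr finSumFinEquiv).trans (finSumFinEquiv.trans (finCongr (by omega)))
  let B : GL (Fin a) F × GL (Fin b) F → Matrix (Fin a ⊕ (Fin b ⊕ Fin c)) _ F := fun g =>
    Matrix.fromBlocks g.1.1 0 0
      (Matrix.fromBlocks g.2.1 0 0 (1 : Matrix (Fin c) (Fin c) F))
  let ψ : GL (Fin a) F × GL (Fin b) F →* Matrix (Fin n) (Fin n) F :=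
    { toFun := fun g => Matrix.reindex e e (B g)
      map_one' := by simp [B, Matrix.fromBlocks_one, Matrix.submatrix_one_equiv]
      map_mul' := fun g h => by
        simp [B, Matrix.submatrix_mul_equiv, Matrix.fromBlocks_multiply] }
  have hsc : ∀ t : F, Matrix.reindex e e (Matrix.scalar _ t) = Matrix.scalar (Fin n) t := fun t => by
    simp [Matrix.scalar_apply, Matrix.submatrix_diagonal_equiv, Function.comp_def]
  have hscalar : ∀ t : F, Matrix.scalar (Fin a ⊕ (Fin b ⊕ Fin c)) t = Matrix.fromBlocks
      (Matrix.scalar (Fin a) t) 0 0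
      (Matrix.fromBlocks (Matrix.scalar (Fin b) t) 0 0 (Matrix.scalar (Fin c) t)) := fun t => by
    simp [Matrix.scalar_apply, Matrix.fromBlocks_diagonal]
  refine ⟨ψ.toHomUnits, fun g h hgh => ?_, fun g => ?_, fun g t hg => ?_, fun g t hc h1 h2 => ?_⟩
  · have h1 : ψ g = ψ h := congrArg (fun u : GL (Fin n) F => (u : Matrix (Fin n) (Fin n) F)) hgh
    have h2 := (Matrix.reindex e e).injective h1
    rw [Matrix.fromBlocks_inj, Matrix.fromBlocks_inj] at h2
    exact Prod.ext (Units.ext h2.1) (Units.ext h2.2.2.2.1)
  · show (Matrix.reindex e e (B g)).det = _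
    rw [Matrix.det_reindex_self, Matrix.det_fromBlocks_zero₁₂, Matrix.det_fromBlocks_zero₁₂,
      Matrix.det_one, mul_one]
  · have h2 : B g = Matrix.scalar _ t := (Matrix.reindex e e).injective (hg.trans (hsc t).symm)
    rw [hscalar, Matrix.fromBlocks_inj, Matrix.fromBlocks_inj] at h2
    refine ⟨h2.1, h2.2.2.2.1, fun hc => ?_⟩
    haveI : Nonempty (Fin c) := ⟨⟨0, hc⟩⟩
    have := congrFun (congrFun h2.2.2.2.2.2.2 ⟨0, hc⟩) ⟨0, hc⟩
    simpa [Matrix.scalar_apply] using this.symm
  · subst hc
    show Matrix.reindex e e (B g) = _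
    rw [← hsc, hscalar]
    simp only [B, h1, h2]
    congr 3
    exact Subsingleton.elim _ _

section Lin

variable {V : Type*} [AddCommGroup V] [Module F V] [FiniteDimensional F V]

/-- A nonzero subspace killed by `f(T)` and invariant under `T` has dimension at least `deg f`. -/
theorem natDegree_le_finrank {T : Module.End F V} {f : F[X]} (hf : Irreducible f)
    {S : Submodule F V} (hS : S ≠ ⊥) (hT : ∀ v ∈ S, T v ∈ S) (hfS : ∀ v ∈ S, aeval T f v = 0) :
    f.natDegree ≤ Module.finrank F S := by
  obtain ⟨w, hw, hw0⟩ := (Submodule.ne_bot_iff S).1 hS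
  have hmem : ∀ Q : F[X], aeval T Q w ∈ S := by
    intro Q
    induction Q using Polynomial.induction_on' with
    | add P Q hP hQ => rw [map_add, LinearMap.add_apply]; exact S.add_mem hP hQ
    | monomial i c =>
      rw [← C_mul_X_pow_eq_monomial, map_mul, aeval_C, map_pow, aeval_X, Module.End.mul_apply,
        Module.algebraMap_end_apply]
      refine S.smul_mem _ ?_
      induction i with
      | zero => simpa using hw
      | succ i ih => rw [pow_succ', Module.End.mul_apply]; exact hT _ ih
  let L : degreeLT F f.natDegree →ₗ[F] S :=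
    { toFun := fun Q => ⟨aeval T (Q : F[X]) w, hmem _⟩
      map_add' := fun P Q => Subtype.ext (by simp)
      map_smul' := fun c Q => Subtype.ext (by simp) }
  have hL : Function.Injective L := by
    rw [injective_iff_map_eq_zero]
    rintro ⟨Q, hQ⟩ h
    have hQw : aeval T Q w = 0 := congrArg Subtype.val h
    by_contra hne
    have hQ0 : Q ≠ 0 := fun h => hne (Subtype.ext h)
    have hnd : ¬ f ∣ Q := fun hd => by
      have h1 := natDegree_le_of_dvd hd hQ0
      rw [mem_degreeLT, degree_eq_natDegree hQ0, Nat.cast_lt] at hQ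
      omega
    obtain ⟨a, b, hab⟩ := hf.coprime_iff_not_dvd.2 hnd
    have := congrArg (fun P => aeval T P w) hab
    simp [hfS w hw, hQw] at this
    exact hw0 this.symm
  have := LinearMap.finrank_le_finrank_of_injective hL
  rwa [LinearEquiv.finrank_eq (degreeLTEquiv F f.natDegree), Module.finrank_fin_fun] at this

/-- A semisimple endomorphism commuting with a nonzero nilpotent one. -/
theorem nilpotent_commute_bound (T N : Module.End F V) (hc : Commute T N) (hN : IsNilpotent N)
    (hN0 : N ≠ 0) (hsq : Squarefree (minpoly F T)) {f : F[X]} (hf : Irreducible f)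
    (hfd : f ∣ minpoly F T) :
    (2 * f.natDegree ≤ Module.finrank F V ∧
      (¬ minpoly F T ∣ f → 2 * f.natDegree + 1 ≤ Module.finrank F V)) ∨
      f.natDegree + 2 ≤ Module.finrank F V := by
  obtain ⟨g, hg⟩ := hfd
  obtain ⟨j, hj⟩ := hN
  have hTint : IsIntegral F T := Algebra.IsIntegral.isIntegral T
  have hP0 : minpoly F T ≠ 0 := minpoly.ne_zero hTint
  have hg0 : g ≠ 0 := fun h => hP0 (by rw [hg, h, mul_zero])
  have hco : IsCoprime f g := by
    refine hf.coprime_iff_not_dvd.2 fun hd => hf.not_isUnit ?_
    exact hsq f (hg ▸ mul_dvd_mul_left f hd)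
  set W := LinearMap.ker (aeval T f) with hW
  set U := LinearMap.ker (aeval T g) with hU
  have hdis : Disjoint W U := disjoint_ker_aeval_of_isCoprime T hco
  have hsup : W ⊔ U = ⊤ := by
    rw [hW, hU, sup_ker_aeval_eq_ker_aeval_mul_of_coprime T hco, ← hg, minpoly.aeval,
      LinearMap.ker_zero]
  have hdim : Module.finrank F W + Module.finrank F U = Module.finrank F V := by
    rw [← Submodule.finrank_sup_add_finrank_inf_eq, hdis.eq_bot, hsup, finrank_top, finrank_bot,
      add_zero]
  have hTW : ∀ (P : F[X]), ∀ v ∈ LinearMap.ker (aeval T P), T v ∈ LinearMap.ker (aeval T P) := by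
    intro P v hv
    rw [LinearMap.mem_ker] at hv ⊢
    have : aeval T P * T = T * aeval T P := by
      have h := ((Commute.all P X).map (aeval T)).eq
      rwa [aeval_X] at h
    rw [← Module.End.mul_apply, this, Module.End.mul_apply, hv, map_zero]
  have hNW : ∀ (P : F[X]), ∀ v ∈ LinearMap.ker (aeval T P), N v ∈ LinearMap.ker (aeval T P) := by
    intro P v hv
    rw [LinearMap.mem_ker] at hv ⊢
    have : Commute (aeval T P) N := by
      clear hv
      induction P using Polynomial.induction_on' with
      | add P Q hP hQ => rw [map_add]; exact hP.add_left hQ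
      | monomial i c =>
        rw [aeval_monomial]
        exact (Algebra.commute_algebraMap_left c N).mul_left (hc.pow_left i)
    rw [← Module.End.mul_apply, this.eq, Module.End.mul_apply, hv, map_zero]
  have hW0 : W ≠ ⊥ := by
    intro h
    have h1 : aeval T g = 0 := by
      apply LinearMap.ext
      intro v
      have h2 : aeval T f (aeval T g v) = 0 := by
        rw [← Module.End.mul_apply, ← map_mul, ← hg, minpoly.aeval, LinearMap.zero_apply]
      exact (LinearMap.ker_eq_bot'.1 h) _ h2
    have h3 := natDegree_le_of_dvd (minpoly.dvd F T h1) hg0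
    rw [hg, natDegree_mul hf.ne_zero hg0] at h3
    have := hf.natDegree_pos
    omega
  by_cases hcase : ∀ v ∈ W, N v = 0
  · right
    have h1 := natDegree_le_finrank hf hW0 (hTW f) (fun v hv => hv)
    obtain ⟨u, huU, hu⟩ : ∃ u ∈ U, N u ≠ 0 := by
      by_contra h
      push Not at h
      apply hN0
      apply LinearMap.ext
      intro v
      obtain ⟨a, ha, b, hb, rfl⟩ := Submodule.mem_sup.1 (hsup ▸ Submodule.mem_top : v ∈ W ⊔ U)
      rw [map_add, hcase a ha, h b hb, add_zero, LinearMap.zero_apply]
    have h2 : 2 ≤ Module.finrank F U := by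
      by_contra h
      push Not at h
      have hle : Submodule.span F {u} ≤ U := (Submodule.span_singleton_le_iff_mem _ _).2 huU
      have hu0 : u ≠ 0 := fun h' => hu (by rw [h', map_zero])
      have heq : Submodule.span F {u} = U := Submodule.eq_of_le_of_finrank_le hle (by
        rw [finrank_span_singleton hu0]; omega)
      have hNu : N u ∈ Submodule.span F {u} := heq ▸ hNW g u huU
      obtain ⟨c, hc'⟩ := Submodule.mem_span_singleton.1 hNu
      have hpow : ∀ i, (N ^ i) u = c ^ i • u := by
        intro i
        induction i with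
        | zero => simp
        | succ i ih =>
          rw [pow_succ', Module.End.mul_apply, ih, map_smul, ← hc', smul_smul, ← pow_succ]
      have := hpow j
      rw [hj, LinearMap.zero_apply] at this
      rcases smul_eq_zero.1 this.symm with h' | h'
      · apply hu
        rw [← hc', eq_zero_of_pow_eq_zero h', zero_smul]
      · exact hu0 h'
    omega
  · left
    push Not at hcase
    obtain ⟨v, hv, hv0⟩ := hcase
    let NW : W →ₗ[F] V := N.comp W.subtype
    have hR : f.natDegree ≤ Module.finrank F (LinearMap.range NW) := by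
      refine natDegree_le_finrank (T := T) hf ?_ ?_ ?_
      · rw [Submodule.ne_bot_iff]
        exact ⟨N v, ⟨⟨v, hv⟩, rfl⟩, hv0⟩
      · rintro _ ⟨⟨w, hw⟩, rfl⟩
        refine ⟨⟨T w, hTW f w hw⟩, ?_⟩
        show N (T w) = T (N w)
        rw [← Module.End.mul_apply, ← hc.eq, Module.End.mul_apply]
      · rintro _ ⟨⟨w, hw⟩, rfl⟩
        exact hNW f w hw
    have hK : f.natDegree ≤ Module.finrank F ((LinearMap.ker NW).map W.subtype) := by
      refine natDegree_le_finrank (T := T) hf ?_ ?_ ?_
      · obtain ⟨i, hi, hi'⟩ : ∃ i, (N ^ i) v ≠ 0 ∧ (N ^ (i + 1)) v = 0 := by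
          by_contra h
          push Not at h
          have : ∀ i, (N ^ i) v ≠ 0 := by
            intro i
            induction i with
            | zero =>
              intro h0
              exact hv0 (by rw [show v = 0 by simpa using h0, map_zero])
            | succ i ih => exact h i ih
          exact this j (by rw [hj, LinearMap.zero_apply])
        have hiW : (N ^ i) v ∈ W := by
          clear hi hi'
          induction i with
          | zero => simpa using hv
          | succ i ih => rw [pow_succ', Module.End.mul_apply]; exact hNW f _ ih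
        rw [Submodule.ne_bot_iff]
        refine ⟨(N ^ i) v, ⟨⟨_, hiW⟩, ?_, rfl⟩, hi⟩
        rw [pow_succ', Module.End.mul_apply] at hi'
        exact hi'
      · rintro _ ⟨⟨w, hw⟩, hk, rfl⟩
        refine ⟨⟨T w, hTW f w hw⟩, ?_, rfl⟩
        have hk' : N w = 0 := hk
        show N (T w) = 0
        rw [← Module.End.mul_apply, ← hc.eq, Module.End.mul_apply, hk', map_zero]
      · rintro _ ⟨⟨w, hw⟩, hk, rfl⟩
        exact hw
    rw [Submodule.finrank_map_subtype_eq] at hK
    have h3 := LinearMap.finrank_range_add_finrank_ker NW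
    refine ⟨by omega, fun hnd => ?_⟩
    have hU0 : 1 ≤ Module.finrank F U := by
      by_contra h
      push Not at h
      apply hnd
      refine minpoly.dvd F T (LinearMap.ext fun w => ?_)
      have hbot : U = ⊥ := Submodule.finrank_eq_zero.1 (by omega)
      have h2 : aeval T g (aeval T f w) = 0 := by
        rw [← Module.End.mul_apply, ← map_mul, mul_comm, ← hg, minpoly.aeval, LinearMap.zero_apply]
      rw [LinearMap.zero_apply]
      exact (LinearMap.ker_eq_bot'.1 hbot) _ h2
    omega

/-- In dimension three with no scalar of order nine, such an element is scalar. -/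
theorem scalar_of_cube (h3 : (3 : F) ≠ 0) (h9 : ∀ x : F, x ^ 9 = 1 → x ^ 3 = 1)
    (hV : Module.finrank F V = 3) (T N : Module.End F V) (hc : Commute T N) (hN : IsNilpotent N)
    (hN0 : N ≠ 0) (a : F) (hT : T ^ 3 = a • 1) (hdet : LinearMap.det T = 1) :
    ∃ c : F, T = c • 1 := by
  classical
  -- replace `N` by a nonzero square-zero power
  obtain ⟨M, hcM, hM0, hMM⟩ : ∃ M : Module.End F V, Commute T M ∧ M ≠ 0 ∧ M * M = 0 := by
    obtain ⟨j, hj⟩ := hN
    have hex : ∃ i, N ^ i = 0 := ⟨j, hj⟩
    set i := Nat.find hex with hi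
    have hi2 : 2 ≤ i := by
      rcases Nat.lt_or_ge i 2 with h | h
      · exfalso
        have h0 := Nat.find_spec hex
        rw [← hi] at h0
        interval_cases i
        · apply hN0
          calc N = N * N ^ 0 := by simp
            _ = 0 := by rw [h0, mul_zero]
        · exact hN0 (by simpa using h0)
      · exact h
    refine ⟨N ^ (i - 1), hc.pow_right _, fun h => Nat.find_min hex (by omega) h, ?_⟩
    rw [← pow_add]
    exact pow_eq_zero_of_le (by omega) (Nat.find_spec hex)
  have hle : LinearMap.range M ≤ LinearMap.ker M := by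
    rintro _ ⟨v, rfl⟩
    rw [LinearMap.mem_ker, ← Module.End.mul_apply, hMM, LinearMap.zero_apply]
  have hr1 : Module.finrank F (LinearMap.range M) = 1 := by
    have := LinearMap.finrank_range_add_finrank_ker M
    have := Submodule.finrank_mono hle
    have : Module.finrank F (LinearMap.range M) ≠ 0 := by
      rw [Ne, Submodule.finrank_eq_zero, LinearMap.range_eq_bot]
      exact hM0
    omega
  obtain ⟨v, hv⟩ : ∃ v, M v ≠ 0 := by
    by_contra h
    push Not at h
    exact hM0 (LinearMap.ext h)
  have hspan : Submodule.span F {M v} = LinearMap.range M :=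
    Submodule.eq_of_le_of_finrank_le
      ((Submodule.span_singleton_le_iff_mem _ _).2 (LinearMap.mem_range_self M v))
      (by rw [hr1, finrank_span_singleton hv])
  obtain ⟨l, hl⟩ : ∃ l : F, l • M v = T (M v) := by
    rw [← Submodule.mem_span_singleton, hspan]
    exact ⟨T v, by rw [← Module.End.mul_apply, ← hcM.eq, Module.End.mul_apply]⟩
  set w := M v with hw
  have hTw : T w = l • w := hl.symm
  have hl3 : l ^ 3 = a := by
    have h1 : (T ^ 3) w = l ^ 3 • w := by
      simp only [pow_succ, pow_zero, one_mul, Module.End.mul_apply, hTw, map_smul, smul_smul, mul_assoc]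
    rw [hT, LinearMap.smul_apply, Module.End.one_apply] at h1
    exact (smul_left_injective F hv h1).symm
  have ha3 : a ^ 3 = 1 := by
    have := congrArg LinearMap.det hT
    rw [map_pow, hdet, one_pow, LinearMap.det_smul, map_one, mul_one, hV] at this
    exact this.symm
  have hl1 : l ^ 3 = 1 := h9 l (by rw [show (9 : ℕ) = 3 * 3 by norm_num, pow_mul, hl3, ha3])
  have hl0 : l ≠ 0 := by rintro rfl; simp at hl1
  set S : Module.End F V := l⁻¹ • T with hS
  have hS3 : S ^ 3 = 1 := by
    rw [hS, smul_pow, hT, inv_pow, hl1, ← hl3, hl1, inv_one, one_smul, one_smul]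
  have hSdet : LinearMap.det S = 1 := by
    rw [hS, LinearMap.det_smul, hdet, hV, inv_pow, hl1, inv_one, one_mul]
  have hSM : ∀ x, M (S x) = S (M x) := fun x => by
    simp only [hS, LinearMap.smul_apply, map_smul]
    rw [← Module.End.mul_apply, ← hcM.eq, Module.End.mul_apply]
  have hSw : S w = w := by
    simp [hS, hTw, smul_smul, inv_mul_cancel₀ hl0]
  -- an averaged preimage
  set v' := (3 : F)⁻¹ • (v + S v + S (S v)) with hv'
  have hSv' : S v' = v' := by
    have h : S (S (S v)) = v := by
      have := LinearMap.congr_fun hS3 v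
      simpa [pow_succ, Module.End.mul_apply] using this
    rw [hv', map_smul, map_add, map_add, h]
    congr 1
    abel
  have hMv' : M v' = w := by
    rw [hv', map_smul, map_add, map_add, hSM, hSM, hSM, ← hw, hSw, hSw,
      show w + w + w = (3 : F) • w by module, smul_smul, inv_mul_cancel₀ h3, one_smul]
  obtain ⟨e, he⟩ : ∃ e, e ∉ Submodule.span F {w, v'} := by
    by_contra h
    push Not at h
    have h1 : (Submodule.span F {w, v'} : Submodule F V) = ⊤ := eq_top_iff.2 fun x _ => h x
    have h2 := finrank_span_le_card (R := F) ({w, v'} : Set V)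
    rw [h1, finrank_top, hV] at h2
    have h4 : ({w, v'} : Set V).toFinset.card ≤ 2 := by
      rw [Set.toFinset_insert, Set.toFinset_singleton]
      exact Finset.card_le_two
    omega
  have hMw : M w = 0 := by
    rw [hw, ← Module.End.mul_apply, hMM, LinearMap.zero_apply]
  have hli : LinearIndependent F ![w, v', e] := by
    rw [Fintype.linearIndependent_iff]
    intro c hc'
    simp [Fin.sum_univ_three] at hc'
    have h2 : c 2 = 0 := by
      by_contra h
      apply he
      have : e = -((c 2)⁻¹ • (c 0 • w + c 1 • v')) := by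
        have h' : c 2 • e = -(c 0 • w + c 1 • v') := eq_neg_of_add_eq_zero_right hc'
        rw [← smul_neg, ← h', smul_smul, inv_mul_cancel₀ h, one_smul]
      rw [this]
      refine neg_mem (Submodule.smul_mem _ _ (add_mem (Submodule.smul_mem _ _ ?_)
        (Submodule.smul_mem _ _ ?_))) <;> exact Submodule.subset_span (by simp)
    rw [h2, zero_smul, add_zero] at hc'
    have h1 : c 1 = 0 := by
      have := congrArg M hc'
      simp [hMw, hMv'] at this
      exact this.resolve_right hv
    rw [h1, zero_smul, add_zero, smul_eq_zero] at hc'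
    intro i
    fin_cases i
    · exact hc'.resolve_right hv
    · exact h1
    · exact h2
  let b := basisOfLinearIndependentOfCardEqFinrank hli (by simp [hV])
  have hb : ∀ i, b i = ![w, v', e] i := fun i => by
    simp [b, coe_basisOfLinearIndependentOfCardEqFinrank]
  obtain ⟨α, β, μ, hSe⟩ : ∃ α β μ : F, S e = α • w + β • v' + μ • e := by
    refine ⟨b.repr (S e) 0, b.repr (S e) 1, b.repr (S e) 2, ?_⟩
    conv_lhs => rw [← b.sum_repr (S e)]
    simp [Fin.sum_univ_three, hb]
  have hμ : μ = 1 := by
    have h0 : b.repr (S (b 0)) = Finsupp.single 0 1 := by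
      rw [show S (b 0) = b 0 by simp [hb, hSw], b.repr_self]
    have h1 : b.repr (S (b 1)) = Finsupp.single 1 1 := by
      rw [show S (b 1) = b 1 by simp [hb, hSv'], b.repr_self]
    have h2 : b.repr (S (b 2)) =
        α • Finsupp.single 0 1 + β • Finsupp.single 1 1 + μ • Finsupp.single 2 1 := by
      rw [show S (b 2) = α • b 0 + β • b 1 + μ • b 2 by simpa [hb] using hSe]
      simp only [map_add, map_smul, b.repr_self]
    have := hSdet
    rw [← LinearMap.det_toMatrix b, Matrix.det_fin_three] at this
    simpa [LinearMap.toMatrix_apply, h0, h1, h2] using this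
  have hcube : S (S (S e)) = e := by
    have := LinearMap.congr_fun hS3 e
    simpa [pow_succ, Module.End.mul_apply] using this
  rw [hμ, one_smul] at hSe
  simp only [hSe, map_add, map_smul, hSw, hSv'] at hcube
  have hαβ : (3 * α) • w + (3 * β) • v' = 0 := by
    rw [← sub_eq_zero.2 hcube]
    module
  have hz := Fintype.linearIndependent_iff.1 hli ![3 * α, 3 * β, 0] (by
    simpa [Fin.sum_univ_three] using hαβ)
  have hα : α = 0 := by simpa [h3] using hz 0
  have hβ : β = 0 := by simpa [h3] using hz 1
  have hS1 : S = 1 := by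
    apply b.ext
    intro i
    fin_cases i <;> simp [hb, hSw, hSv', hSe, hα, hβ]
  refine ⟨l, ?_⟩
  rw [← hS1, hS, smul_smul, mul_inv_cancel₀ hl0, one_smul]

end Lin

end CfsgLib.PSLGraph
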